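import Cfsg.Agent.Comp.Std

set_option autoImplicit false
set_option maxRecDepth 100000
set_option Elab.async false

namespace Cfsg.Agent.Comp.M12x

noncomputable def c0 : ℕ := nat_lit 0x485850304038182820100800
noncomputable def c1 : ℕ := nat_lit 0x282018585048403830100800
noncomputable def c2 : ℕ := nat_lit 0x503820584028483018100800
noncomputable def c3 : ℕ := nat_lit 0x204840302850583818100800
noncomputable def c4 : ℕ := nat_lit 0x482838203058405018100800
noncomputable def c5 : ℕ := nat_lit 0x484058503038282000100818
noncomputable def c6 : ℕ := nat_lit 0x403830585048282018100008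
noncomputable def c7 : ℕ := nat_lit 0x304038504858282018081000
noncomputable def c8 : ℕ := nat_lit 0x485850304038182820100800
noncomputable def c9 : ℕ := nat_lit 0x282018585048403830100800
noncomputable def c10 : ℕ := nat_lit 0x503820584028483018100800
noncomputable def c11 : ℕ := nat_lit 0x204840302850583818100800
noncomputable def c12 : ℕ := nat_lit 0x482838203058405018100800
noncomputable def c13 : ℕ := nat_lit 0x484058503038282000100818
noncomputable def c14 : ℕ := nat_lit 0x403830585048282018100008
noncomputable def c15 : ℕ := nat_lit 0x485028583800403020100818
noncomputable def c16 : ℕ := nat_lit 0x305820501840283848100800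
noncomputable def c17 : ℕ := nat_lit 0x301848382050402858100800
noncomputable def c18 : ℕ := nat_lit 0x504018302058284838100800
noncomputable def c19 : ℕ := nat_lit 0x405828385020304818100800
noncomputable def c20 : ℕ := nat_lit 0x283050482040385818100800
noncomputable def cs : List ℕ := [c0, c1, c2, c3, c4, c5, c6, c7, c8, c9, c10, c11, c12, c13, c14, c15, c16, c17, c18, c19, c20]
noncomputable def ws : List (List ℕ) := [[], [], [], [], [], [], [], [], [nat_lit 0], [nat_lit 1], [nat_lit 2], [nat_lit 3], [nat_lit 4], [nat_lit 5], [nat_lit 6], [nat_lit 10, nat_lit 8, nat_lit 13], [nat_lit 14, nat_lit 12, nat_lit 8, nat_lit 10, nat_lit 14], [nat_lit 15, nat_lit 16, nat_lit 15, nat_lit 16, nat_lit 15, nat_lit 15, nat_lit 16, nat_lit 15], [nat_lit 16, nat_lit 16, nat_lit 16], [nat_lit 17, nat_lit 18, nat_lit 18, nat_lit 17, nat_lit 17, nat_lit 18, nat_lit 18], [nat_lit 18, nat_lit 17, nat_lit 17, nat_lit 18, nat_lit 17, nat_lit 18, nat_lit 17, nat_lit 17]]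
noncomputable def E : Env := ⟨nat_lit 8, nat_lit 255, cs, nat_lit 21⟩
noncomputable def bl : List ℕ := [nat_lit 0, nat_lit 1, nat_lit 2, nat_lit 3, nat_lit 4, nat_lit 5, nat_lit 6, nat_lit 7, nat_lit 8, nat_lit 9, nat_lit 10, nat_lit 11]
noncomputable def J : Job := ⟨nat_lit 12, E, nat_lit 8, nat_lit 21, ws, bl⟩
noncomputable def orb0 : ℕ := nat_lit 0x582040503848283018000810
noncomputable def idx0 : ℕ := nat_lit 0xb0806090704050a03000102
noncomputable def lab0 : ℕ := nat_lit 0x81202011110010306000807
noncomputable def L0 : Lvl := ⟨nat_lit 16, nat_lit 12, orb0, idx0, lab0, nat_lit 4, nat_lit 0, nat_lit 8⟩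
noncomputable def orb1 : ℕ := nat_lit 0x5820405038482830180008
noncomputable def idx1 : ℕ := nat_lit 0xa0705080603040902000001
noncomputable def lab1 : ℕ := nat_lit 0x90a02010908010306000007
noncomputable def L1 : Lvl := ⟨nat_lit 8, nat_lit 11, orb1, idx1, lab1, nat_lit 3, nat_lit 8, nat_lit 7⟩
noncomputable def orb2 : ℕ := nat_lit 0x38481850284058203000
noncomputable def idx2 : ℕ := nat_lit 0x30608040901050207000000
noncomputable def lab2 : ℕ := nat_lit 0x20602040301050101000000
noncomputable def L2 : Lvl := ⟨nat_lit 0, nat_lit 10, orb2, idx2, lab2, nat_lit 3, nat_lit 15, nat_lit 2⟩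
noncomputable def orb3 : ℕ := nat_lit 0x284020385830485018
noncomputable def idx3 : ℕ := nat_lit 0x40102070503080600000000
noncomputable def lab3 : ℕ := nat_lit 0x20102040301030200000000
noncomputable def L3 : Lvl := ⟨nat_lit 24, nat_lit 9, orb3, idx3, lab3, nat_lit 3, nat_lit 17, nat_lit 2⟩
noncomputable def orb4 : ℕ := nat_lit 0x5848405028383020
noncomputable def idx4 : ℕ := nat_lit 0x70406050201030000000000
noncomputable def lab4 : ℕ := nat_lit 0x20201010201010000000000
noncomputable def L4 : Lvl := ⟨nat_lit 32, nat_lit 8, orb4, idx4, lab4, nat_lit 3, nat_lit 19, nat_lit 2⟩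
noncomputable def os : List ℕ := []
noncomputable def h4 : ℕ := nat_lit 0
noncomputable def h3 : ℕ := nat_lit 0x404858202020403020404820203040205050
noncomputable def h2 : ℕ := nat_lit 0x38403038201848485050201848182058501850303018584820183050285020182018201840382018
noncomputable def h1 : ℕ := nat_lit 0x203018582800501800281800301800481800481800303018202000481800501800201800581800281800403018404800481800481800301800581800201800203018283000301800581800381800401800581800403018384000401800401800381800481800481800583018385000281800581800501800201800401800303018202000301800281800401800401800201800583018502000281800481800201800501800301800303018201800381800301800401800401800281800201800201800581800401800301800283000302800201800303018401800581800481800404800302800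
noncomputable def h0 : ℕ := nat_lit 0x201800085030180050200000501800002018000038180000581800005818000020180000303018082020000838180008401800082018000830180008281800083018000048180018203800083818000838180008501800003018000020180008301800004030180858580008581800083018000848180008501800083018000048180000203018085850000850180008501800084818000838180008381800084818000038301808205800002818000830180008401800082018000850180008201800003030180820200008581800082018000050180008501800082018000820180008383018084020000820180000381800082018000840180008581800082018000030301808201800084818000858180008501800085018000828180008201800002018000820180008301800085018000858180008585800083028000820180008201800083030180850180008301800083818000820380008302800082018000820180000303018084018000858180008481800084048000830280008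

end Cfsg.Agent.Comp.M12x
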